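import Mathlib
import Groth.Agent.Lib.Helper7.ComplFin.Main
import Groth.Agent.Lib.Helper7.ComplFlat.Main
import Groth.Agent.Lib.Helper7.CAlg.ReducedSmooth

/-!
# An etale local algebra over an analytically reduced local ring is analytically reduced (helper7)

The completion map is finite, flat and formally unramified, hence etale; reducedness ascends along
smooth maps.
-/

set_option linter.style.haveILetI false
set_option linter.unusedVariables false
set_option linter.unusedSectionVars false
set_option autoImplicit false
set_option synthInstance.maxHeartbeats 400000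
set_option maxHeartbeats 1600000

universe u

namespace Groth.Agent.Helper7.AnRed

open IsLocalRing

theorem isLocalHom_of_comap (A C : Type u) [CommRing A] [IsLocalRing A] [CommRing C] [Algebra A C]
    (q : Ideal C) [q.IsPrime] (hq : Ideal.comap (algebraMap A C) q = maximalIdeal A) :
    IsLocalHom (algebraMap A (Localization.AtPrime q)) := by
  constructor
  intro a ha
  by_contra hna
  have h1 : a ∈ maximalIdeal A := (IsLocalRing.mem_maximalIdeal a).mpr hna
  rw [← hq] at h1
  have h2 : algebraMap A C a ∈ q := h1
  have h3 : algebraMap C (Localization.AtPrime q) (algebraMap A C a) ∈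
      maximalIdeal (Localization.AtPrime q) := by
    have h4 := IsLocalization.AtPrime.map_eq_maximalIdeal q (Localization.AtPrime q)
    rw [← h4]
    exact Ideal.mem_map_of_mem _ h2
  rw [← IsScalarTower.algebraMap_apply A C (Localization.AtPrime q)] at h3
  exact (IsLocalRing.mem_maximalIdeal _).mp h3 ha

theorem flat_localization_of_isEtaleAt (A C : Type u) [CommRing A] [IsNoetherianRing A]
    [CommRing C] [Algebra A C] [Algebra.FiniteType A C] (q : Ideal C) [q.IsPrime]
    (hC : Algebra.IsEtaleAt A q) : Module.Flat A (Localization.AtPrime q) := by
  haveI hfp : Algebra.FinitePresentation A C :=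
    Algebra.FinitePresentation.of_finiteType.mp inferInstance
  haveI : Algebra.IsEtaleAt A q := hC
  obtain ⟨f, hfq, hfet⟩ := Algebra.exists_etale_of_isEtaleAt (R := A) q
  haveI := hfet
  have hfunit : IsUnit (algebraMap C (Localization.AtPrime q) f) :=
    IsLocalization.map_units (Localization.AtPrime q)
      (⟨f, show f ∈ q.primeCompl from hfq⟩ : q.primeCompl)
  letI algCfB : Algebra (Localization.Away f) (Localization.AtPrime q) :=
    (IsLocalization.Away.lift f hfunit).toAlgebra
  haveI st1 : IsScalarTower C (Localization.Away f) (Localization.AtPrime q) :=
    IsScalarTower.of_algebraMap_eq fun x => by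
      show algebraMap C (Localization.AtPrime q) x =
        (IsLocalization.Away.lift f hfunit) (algebraMap C (Localization.Away f) x)
      rw [IsLocalization.Away.lift_eq]
  have hle : Submonoid.powers f ≤ q.primeCompl := by
    rintro _ ⟨n, rfl⟩
    exact q.primeCompl.pow_mem hfq n
  haveI : IsLocalization (q.primeCompl.map (algebraMap C (Localization.Away f)))
      (Localization.AtPrime q) :=
    IsLocalization.isLocalization_of_submonoid_le (S := Localization.Away f)
      (T := Localization.AtPrime q) (Submonoid.powers f) q.primeCompl hle
  haveI : Module.Flat (Localization.Away f) (Localization.AtPrime q) :=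
    IsLocalization.flat (Localization.AtPrime q)
      (q.primeCompl.map (algebraMap C (Localization.Away f)))
  haveI st2 : IsScalarTower A (Localization.Away f) (Localization.AtPrime q) :=
    IsScalarTower.of_algebraMap_eq fun a => by
      rw [IsScalarTower.algebraMap_apply A C (Localization.AtPrime q),
        IsScalarTower.algebraMap_apply A C (Localization.Away f),
        ← IsScalarTower.algebraMap_apply C (Localization.Away f) (Localization.AtPrime q)]
  haveI : Module.Flat A (Localization.Away f) := inferInstance
  exact Module.Flat.trans A (Localization.Away f) (Localization.AtPrime q)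

/-- the completion map of a formally unramified local homomorphism of Noetherian local rings,
when finite, is formally unramified -/
theorem formallyUnramified_compl (A B : Type u) [CommRing A] [CommRing B] [IsLocalRing A]
    [IsLocalRing B] [IsNoetherianRing A] [IsNoetherianRing B] [Algebra A B]
    [Algebra.FormallyUnramified A B]
    (ψ : AdicCompletion (maximalIdeal A) A →+* AdicCompletion (maximalIdeal B) B)
    (hψ : ψ.comp (algebraMap A (AdicCompletion (maximalIdeal A) A)) =
      (algebraMap B (AdicCompletion (maximalIdeal B) B)).comp (algebraMap A B))
    (hfin : ψ.Finite) :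
    @Algebra.FormallyUnramified (AdicCompletion (maximalIdeal A) A)
      (AdicCompletion (maximalIdeal B) B) _ _ ψ.toAlgebra := by
  letI algψ : Algebra (AdicCompletion (maximalIdeal A) A) (AdicCompletion (maximalIdeal B) B) :=
    ψ.toAlgebra
  haveI hmf : Module.Finite (AdicCompletion (maximalIdeal A) A)
      (AdicCompletion (maximalIdeal B) B) := hfin
  haveI hst2 : IsScalarTower A (AdicCompletion (maximalIdeal A) A)
      (AdicCompletion (maximalIdeal B) B) := by
    refine IsScalarTower.of_algebraMap_eq (fun a => ?_)
    have := RingHom.congr_fun hψ a
    rw [IsScalarTower.algebraMap_apply A B (AdicCompletion (maximalIdeal B) B)]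
    exact this.symm
  haveI hcomm : SMulCommClass (AdicCompletion (maximalIdeal A) A) B
      (AdicCompletion (maximalIdeal B) B) :=
    ⟨fun x b m => by simp only [Algebra.smul_def]; ring⟩
  have claim1 : ∀ b : B, KaehlerDifferential.D (AdicCompletion (maximalIdeal A) A)
      (AdicCompletion (maximalIdeal B) B)
      (algebraMap B (AdicCompletion (maximalIdeal B) B) b) = 0 := by
    intro b
    rw [← KaehlerDifferential.map_D A (AdicCompletion (maximalIdeal A) A) B
      (AdicCompletion (maximalIdeal B) B)]
    rw [Subsingleton.elim (KaehlerDifferential.D A B b) 0, map_zero]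
  have hmaxB : maximalIdeal (AdicCompletion (maximalIdeal B) B) =
      (maximalIdeal B).map (algebraMap B (AdicCompletion (maximalIdeal B) B)) :=
    AdicCompletion.maximalIdeal_eq_map
  have claim2 : ∀ y : AdicCompletion (maximalIdeal B) B,
      y ∈ (maximalIdeal B).map (algebraMap B (AdicCompletion (maximalIdeal B) B)) →
      KaehlerDifferential.D (AdicCompletion (maximalIdeal A) A)
        (AdicCompletion (maximalIdeal B) B) y ∈
        (maximalIdeal (AdicCompletion (maximalIdeal B) B) •
          (⊤ : Submodule (AdicCompletion (maximalIdeal B) B)
            (KaehlerDifferential (AdicCompletion (maximalIdeal A) A)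
              (AdicCompletion (maximalIdeal B) B)))) := by
    intro y hy
    induction hy using Submodule.span_induction with
    | mem x h =>
      obtain ⟨b, hb, rfl⟩ := h
      rw [claim1]
      exact Submodule.zero_mem _
    | zero =>
      rw [map_zero]
      exact Submodule.zero_mem _
    | add x y hx hy ihx ihy =>
      rw [map_add]
      exact Submodule.add_mem _ ihx ihy
    | smul a x hx ih =>
      rw [smul_eq_mul, Derivation.leibniz]
      refine Submodule.add_mem _ (Submodule.smul_mem _ _ ih) ?_
      refine Submodule.smul_mem_smul ?_ Submodule.mem_top
      rw [hmaxB]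
      exact hx
  have claim3 : ∀ x : AdicCompletion (maximalIdeal B) B,
      KaehlerDifferential.D (AdicCompletion (maximalIdeal A) A)
        (AdicCompletion (maximalIdeal B) B) x ∈
        (maximalIdeal (AdicCompletion (maximalIdeal B) B) •
          (⊤ : Submodule (AdicCompletion (maximalIdeal B) B)
            (KaehlerDifferential (AdicCompletion (maximalIdeal A) A)
              (AdicCompletion (maximalIdeal B) B)))) := by
    intro x
    obtain ⟨b, hb⟩ := Ideal.Quotient.mk_surjective (AdicCompletion.evalOneₐ (maximalIdeal B) x)
    have hker : x - algebraMap B (AdicCompletion (maximalIdeal B) B) b ∈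
        RingHom.ker (AdicCompletion.evalOneₐ (maximalIdeal B)).toRingHom := by
      rw [RingHom.mem_ker, map_sub, sub_eq_zero]
      exact hb.symm.trans (RingHom.congr_fun
        (AdicCompletion.evalOneₐ_comp_algebraMap_eq_mk (maximalIdeal B)) b).symm
    rw [AdicCompletion.ker_evalOneₐ_eq_map _ (maximalIdeal B).fg_of_isNoetherianRing] at hker
    have h2 := claim2 _ hker
    have h3 : x = (x - algebraMap B (AdicCompletion (maximalIdeal B) B) b) +
        algebraMap B (AdicCompletion (maximalIdeal B) B) b := by ring
    rw [h3, map_add, claim1, add_zero]
    exact h2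
  have htop : (⊤ : Submodule (AdicCompletion (maximalIdeal B) B)
      (KaehlerDifferential (AdicCompletion (maximalIdeal A) A)
        (AdicCompletion (maximalIdeal B) B))) ≤
      maximalIdeal (AdicCompletion (maximalIdeal B) B) • ⊤ := by
    intro z _
    have hz : z ∈ Submodule.span (AdicCompletion (maximalIdeal B) B)
        (Set.range (KaehlerDifferential.D (AdicCompletion (maximalIdeal A) A)
          (AdicCompletion (maximalIdeal B) B))) := by
      rw [KaehlerDifferential.span_range_derivation]
      trivial
    refine Submodule.span_le.mpr ?_ hz
    rintro _ ⟨x, rfl⟩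
    exact claim3 x
  have hbot := Submodule.eq_bot_of_le_smul_of_le_jacobson_bot
    (maximalIdeal (AdicCompletion (maximalIdeal B) B)) ⊤ Module.Finite.fg_top htop
    (IsLocalRing.maximalIdeal_le_jacobson _)
  refine ⟨subsingleton_of_forall_eq 0 fun z => ?_⟩
  have hz : z ∈ (⊤ : Submodule (AdicCompletion (maximalIdeal B) B)
      (KaehlerDifferential (AdicCompletion (maximalIdeal A) A)
        (AdicCompletion (maximalIdeal B) B))) := trivial
  rw [hbot] at hz
  exact (Submodule.mem_bot _).mp hz

theorem main (A C : Type u) [CommRing A] [IsLocalRing A]
    [IsNoetherianRing A] [CommRing C] [Algebra A C] [Algebra.FiniteType A C] (q : Ideal C)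
    [q.IsPrime]
    (hq : Ideal.comap (algebraMap A C) q = IsLocalRing.maximalIdeal A)
    (hC : Algebra.IsEtaleAt A q)
    (hA : IsReduced (AdicCompletion (IsLocalRing.maximalIdeal A) A)) :
    IsReduced (AdicCompletion (IsLocalRing.maximalIdeal (Localization.AtPrime q))
      (Localization.AtPrime q)) ∧ IsReduced (Localization.AtPrime q) := by
  haveI : IsNoetherianRing C := Algebra.FiniteType.isNoetherianRing A C
  haveI : IsNoetherianRing (Localization.AtPrime q) :=
    IsLocalization.isNoetherianRing q.primeCompl _ inferInstance
  haveI hfe : Algebra.FormallyEtale A (Localization.AtPrime q) := hC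
  haveI hloc : IsLocalHom (algebraMap A (Localization.AtPrime q)) := isLocalHom_of_comap A C q hq
  haveI hun : Algebra.FormallyUnramified A (Localization.AtPrime q) := inferInstance
  haveI : Algebra.EssFiniteType A (Localization.AtPrime q) := inferInstance
  have hmap : (maximalIdeal A).map (algebraMap A (Localization.AtPrime q)) =
      maximalIdeal (Localization.AtPrime q) := Algebra.FormallyUnramified.map_maximalIdeal
  have hflat : Module.Flat A (Localization.AtPrime q) := flat_localization_of_isEtaleAt A C q hC
  have hfib : Module.Finite (maximalIdeal A).ResidueField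
      ((maximalIdeal A).Fiber (Localization.AtPrime q)) := by
    haveI h0 : Module.Finite A (ResidueField A) :=
      Module.Finite.of_surjective (Algebra.linearMap A (ResidueField A)) (fun x => by
        obtain ⟨a, rfl⟩ := IsLocalRing.residue_surjective x
        exact ⟨a, rfl⟩)
    haveI h1 : Module.Finite A (ResidueField (Localization.AtPrime q)) :=
      Module.Finite.trans (ResidueField A) (ResidueField (Localization.AtPrime q))
    have h2 : Module.Finite A ((Localization.AtPrime q) ⧸
        (maximalIdeal A).map (algebraMap A (Localization.AtPrime q))) := by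
      rw [hmap]
      exact h1
    haveI := h2
    haveI h3 : Module.Finite A ((maximalIdeal A).Fiber (Localization.AtPrime q)) :=
      Module.Finite.equiv
        (Groth.Agent.Helper7.ComplFin.fiberEquiv A (Localization.AtPrime q)).toLinearEquiv
    exact Module.Finite.of_restrictScalars_finite A _ _
  have hψ : (FSch.complMap (maximalIdeal A) (maximalIdeal (Localization.AtPrime q))
      (algebraMap A (Localization.AtPrime q)) hmap.le).comp
      (algebraMap A (AdicCompletion (maximalIdeal A) A)) =
      (algebraMap (Localization.AtPrime q)
        (AdicCompletion (maximalIdeal (Localization.AtPrime q)) (Localization.AtPrime q))).comp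
        (algebraMap A (Localization.AtPrime q)) :=
    RingHom.ext fun a => Groth.Agent.Helper7.ComplFin.complMap_of (maximalIdeal A)
      (maximalIdeal (Localization.AtPrime q)) (algebraMap A (Localization.AtPrime q)) hmap.le a
  have hfin : (FSch.complMap (maximalIdeal A) (maximalIdeal (Localization.AtPrime q))
      (algebraMap A (Localization.AtPrime q)) hmap.le).Finite :=
    Groth.Agent.Helper7.ComplFin.finite_complMap A (Localization.AtPrime q)
      (maximalIdeal A).fg_of_isNoetherianRing
      (maximalIdeal (Localization.AtPrime q)).fg_of_isNoetherianRing hfib hmap.le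
  have hψflat : (FSch.complMap (maximalIdeal A) (maximalIdeal (Localization.AtPrime q))
      (algebraMap A (Localization.AtPrime q)) hmap.le).Flat :=
    (Groth.Agent.Helper7.ComplFlat.main A (Localization.AtPrime q) _ hψ).mpr
      (RingHom.flat_algebraMap_iff.mpr hflat)
  have hunr := formallyUnramified_compl A (Localization.AtPrime q) _ hψ hfin
  letI algψ : Algebra (AdicCompletion (maximalIdeal A) A)
      (AdicCompletion (maximalIdeal (Localization.AtPrime q)) (Localization.AtPrime q)) :=
    (FSch.complMap (maximalIdeal A) (maximalIdeal (Localization.AtPrime q))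
      (algebraMap A (Localization.AtPrime q)) hmap.le).toAlgebra
  haveI : Module.Finite (AdicCompletion (maximalIdeal A) A)
      (AdicCompletion (maximalIdeal (Localization.AtPrime q)) (Localization.AtPrime q)) := hfin
  haveI : Module.Flat (AdicCompletion (maximalIdeal A) A)
      (AdicCompletion (maximalIdeal (Localization.AtPrime q)) (Localization.AtPrime q)) := hψflat
  haveI : Algebra.FormallyUnramified (AdicCompletion (maximalIdeal A) A)
      (AdicCompletion (maximalIdeal (Localization.AtPrime q)) (Localization.AtPrime q)) := hunr
  haveI : IsNoetherianRing (AdicCompletion (maximalIdeal A) A) :=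
    Groth.Agent.Helper2.CompleteNoeth.isNoetherianRing_adicCompletion A (maximalIdeal A)
      (maximalIdeal A).fg_of_isNoetherianRing
  haveI : Algebra.FinitePresentation (AdicCompletion (maximalIdeal A) A)
      (AdicCompletion (maximalIdeal (Localization.AtPrime q)) (Localization.AtPrime q)) :=
    Algebra.FinitePresentation.of_finiteType.mp inferInstance
  haveI : Algebra.Etale (AdicCompletion (maximalIdeal A) A)
      (AdicCompletion (maximalIdeal (Localization.AtPrime q)) (Localization.AtPrime q)) :=
    Algebra.Etale.of_formallyUnramified_of_flat
  haveI := hA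
  have hred : IsReduced (AdicCompletion (maximalIdeal (Localization.AtPrime q))
      (Localization.AtPrime q)) :=
    Groth.Agent.Helper7.isReduced_of_smooth (AdicCompletion (maximalIdeal A) A) _
  refine ⟨hred, ?_⟩
  haveI := hred
  exact isReduced_of_injective (algebraMap (Localization.AtPrime q)
    (AdicCompletion (maximalIdeal (Localization.AtPrime q)) (Localization.AtPrime q)))
    (fun x y h => AdicCompletion.of_injective (maximalIdeal (Localization.AtPrime q))
      (Localization.AtPrime q) h)

end Groth.Agent.Helper7.AnRed
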